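import Groth.Agent.FlatSpread.Model
import Mathlib.RingTheory.Spectrum.Prime.Chevalley
import Mathlib.RingTheory.Flat.FaithfullyFlat.Algebra

/-!
Models of faithfully flat algebras of finite presentation.
-/

set_option autoImplicit false
set_option linter.style.haveILetI false
set_option backward.isDefEq.respectTransparency false
set_option backward.isDefEq.respectTransparency.types false
universe u

open scoped TensorProduct

namespace Groth.Agent.FFModel

theorem nontrivial_tensor {R S K : Type u} [CommRing R] [CommRing S] [Algebra R S] [Field K] [Algebra R K]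
    (h : (⟨RingHom.ker (algebraMap R K), RingHom.ker_isPrime _⟩ : PrimeSpectrum R) ∈
      Set.range (PrimeSpectrum.comap (algebraMap R S))) : Nontrivial (K ⊗[R] S) := by
  haveI : (RingHom.ker (algebraMap R K)).IsPrime := RingHom.ker_isPrime _
  haveI := (PrimeSpectrum.nontrivial_iff_mem_rangeComap _).2 h
  let f : (RingHom.ker (algebraMap R K)).ResidueField →+* K :=
    Ideal.ResidueField.lift _ (algebraMap R K) le_rfl fun x hx =>
      IsUnit.mk0 _ fun h0 => hx (RingHom.mem_ker.2 h0)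
  letI := f.toAlgebra
  haveI : IsScalarTower R (RingHom.ker (algebraMap R K)).ResidueField K := IsScalarTower.of_algebraMap_eq fun x => by
    symm; exact Ideal.ResidueField.lift_algebraMap _ _ _ _ _
  haveI : Nontrivial (K ⊗[(RingHom.ker (algebraMap R K)).ResidueField]
      ((RingHom.ker (algebraMap R K)).ResidueField ⊗[R] S)) :=
    (Module.FaithfullyFlat.nontrivial_tensorProduct_iff_right _ _).2 inferInstance
  exact (Algebra.TensorProduct.cancelBaseChange R (RingHom.ker (algebraMap R K)).ResidueField K K S).symm.toEquiv.nontrivial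

theorem faithfullyFlat_baseChange {R₀ S₀ A₀ : Type u} [CommRing R₀] [CommRing S₀] [CommRing A₀] [Algebra R₀ S₀]
    [Algebra R₀ A₀] [Module.Flat R₀ S₀]
    (h : ∀ P : PrimeSpectrum A₀, PrimeSpectrum.comap (algebraMap R₀ A₀) P ∈
      Set.range (PrimeSpectrum.comap (algebraMap R₀ S₀))) :
    Module.FaithfullyFlat A₀ (A₀ ⊗[R₀] S₀) := by
  refine Module.FaithfullyFlat.of_comap_surjective fun P => ?_
  refine (PrimeSpectrum.nontrivial_iff_mem_rangeComap P).1 ?_
  haveI : Nontrivial (P.asIdeal.ResidueField ⊗[R₀] S₀) := by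
    refine nontrivial_tensor ?_
    convert h P using 1
    refine PrimeSpectrum.ext ?_
    change RingHom.ker (algebraMap R₀ P.asIdeal.ResidueField) = P.asIdeal.comap (algebraMap R₀ A₀)
    rw [IsScalarTower.algebraMap_eq R₀ A₀ P.asIdeal.ResidueField, ← RingHom.comap_ker, Ideal.ker_algebraMap_residueField]
  exact (Algebra.TensorProduct.cancelBaseChange R₀ A₀ P.asIdeal.ResidueField P.asIdeal.ResidueField S₀).toEquiv.nontrivial

theorem exists_cover {R RR A : Type u} [CommRing R] [CommRing RR] [CommRing A] [Algebra R RR] [Algebra R A]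
    [Algebra.FinitePresentation R RR] (ρ : RR →ₐ[R] A) {ι : Type u} [Fintype ι] (g : ι → RR) (c : ι → A)
    (hc : ∑ i, c i * ρ (g i) = 1) :
    ∃ (A₀ : Type u) (_ : CommRing A₀) (_ : Algebra R A₀) (χ : RR →ₐ[R] A₀) (σ : A₀ →ₐ[R] A),
      Algebra.FinitePresentation R A₀ ∧ (∀ x, σ (χ x) = ρ x) ∧ Ideal.span (Set.range fun i => χ (g i)) = ⊤ := by
  let rel : MvPolynomial ι RR := (∑ i, MvPolynomial.X i * MvPolynomial.C (g i)) - 1
  haveI : Algebra.FinitePresentation RR (MvPolynomial ι RR ⧸ Ideal.span {rel}) :=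
    Algebra.FinitePresentation.quotient ⟨{rel}, by simp⟩
  let ev : MvPolynomial ι RR →+* A := MvPolynomial.eval₂Hom ρ.toRingHom c
  let σ : MvPolynomial ι RR ⧸ Ideal.span {rel} →+* A := Ideal.Quotient.lift _ ev fun a ha => by
    obtain ⟨b, rfl⟩ := Ideal.mem_span_singleton.1 ha
    simp [ev, rel, hc]
  refine ⟨MvPolynomial ι RR ⧸ Ideal.span {rel}, inferInstance, inferInstance,
    IsScalarTower.toAlgHom R RR _, { σ with commutes' := fun x => ?_ },
    Algebra.FinitePresentation.trans R RR _, fun x => ?_, ?_⟩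
  · exact (MvPolynomial.eval₂Hom_C _ _ _).trans (ρ.commutes x)
  · exact MvPolynomial.eval₂Hom_C _ _ _
  · rw [Ideal.eq_top_iff_one]
    have h0 : Ideal.Quotient.mk (Ideal.span {rel}) rel = 0 :=
      Ideal.Quotient.eq_zero_iff_mem.2 (Ideal.subset_span rfl)
    rw [map_sub, map_sum, map_one, sub_eq_zero] at h0
    rw [← h0]
    refine Ideal.sum_mem _ fun i _ => ?_
    rw [map_mul]
    exact Ideal.mul_mem_left _ _ (Ideal.subset_span ⟨i, rfl⟩)

theorem exists_ff_model {R A B : Type u} [CommRing R] [CommRing A] [CommRing B] [Algebra R A] [Algebra A B]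
    [Algebra.FinitePresentation A B] [Module.FaithfullyFlat A B] :
    ∃ (A₀ B₀ : Type u) (_ : CommRing A₀) (_ : CommRing B₀) (_ : Algebra R A₀) (_ : Algebra A₀ A)
      (_ : IsScalarTower R A₀ A) (_ : Algebra A₀ B₀), Algebra.FinitePresentation R A₀ ∧
      Algebra.FinitePresentation A₀ B₀ ∧ Module.FaithfullyFlat A₀ B₀ ∧ Nonempty (B ≃ₐ[A] A ⊗[A₀] B₀) := by
  classical
  obtain ⟨R₀, _, _, S₀, _, _, _, _, _, _, hR₀, hS₀, hflat, hpush⟩ := FlatSpread.exists_model_algebra A B
  haveI : IsNoetherianRing R₀ := Algebra.FiniteType.isNoetherianRing ℤ R₀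
  haveI : Algebra.FinitePresentation R₀ S₀ := Algebra.FinitePresentation.of_finiteType.mp hS₀
  haveI : Algebra.FinitePresentation ℤ R₀ := Algebra.FinitePresentation.of_finiteType.mp hR₀
  have hopen : IsOpenMap (PrimeSpectrum.comap (algebraMap R₀ S₀)) :=
    PrimeSpectrum.isOpenMap_comap_of_hasGoingDown_of_finitePresentation
  obtain ⟨t, ht⟩ := PrimeSpectrum.isCompact_isOpen_iff.1
    ⟨isCompact_range ((PrimeSpectrum.continuous_comap (algebraMap R₀ S₀))), hopen.isOpen_range⟩
  -- the points of `A` lie in the image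
  have htop : Ideal.span (Set.range fun i : t => algebraMap R₀ A i) = ⊤ := by
    by_contra hne
    obtain ⟨m, hm, hle⟩ := Ideal.exists_le_maximal _ hne
    obtain ⟨Q, hQ⟩ := PrimeSpectrum.comap_surjective_of_faithfullyFlat (A := A) (B := B) ⟨m, hm.isPrime⟩
    have hmem : PrimeSpectrum.comap (algebraMap R₀ A) ⟨m, hm.isPrime⟩ ∈
        Set.range (PrimeSpectrum.comap (algebraMap R₀ S₀)) := by
      refine ⟨PrimeSpectrum.comap (algebraMap S₀ B) Q, ?_⟩
      rw [← hQ, ← PrimeSpectrum.comap_comp_apply, ← PrimeSpectrum.comap_comp_apply,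
        ← IsScalarTower.algebraMap_eq, ← IsScalarTower.algebraMap_eq]
    rw [← ht] at hmem
    refine hmem fun x hx => hle (Ideal.subset_span ⟨⟨x, hx⟩, rfl⟩)
  obtain ⟨c, hc⟩ := Ideal.mem_span_range_iff_exists_fun.1 (htop.ge (Submodule.mem_top (x := (1 : A))))
  letI : Algebra R₀ (R ⊗[ℤ] R₀) := Algebra.TensorProduct.rightAlgebra
  let ρ : R ⊗[ℤ] R₀ →ₐ[R] A :=
    Algebra.TensorProduct.lift (Algebra.ofId R A) (algebraMap R₀ A).toIntAlgHom fun _ _ => Commute.all _ _
  have hρ : ∀ x : R₀, ρ (algebraMap R₀ (R ⊗[ℤ] R₀) x) = algebraMap R₀ A x := fun x =>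
    (Algebra.TensorProduct.lift_tmul _ _ (fun _ _ => Commute.all _ _) _ _).trans (by rw [map_one, one_mul]; rfl)
  obtain ⟨A₀, _, _, χ, σ, hfp, hσ, hspan⟩ := exists_cover ρ (fun i : t => algebraMap R₀ (R ⊗[ℤ] R₀) (i : R₀)) c
    (by rw [← hc]; exact Finset.sum_congr rfl fun i _ => by rw [hρ])
  letI : Algebra A₀ A := σ.toRingHom.toAlgebra
  letI : Algebra R₀ A₀ := (χ.toRingHom.comp (algebraMap R₀ (R ⊗[ℤ] R₀))).toAlgebra
  haveI : IsScalarTower R A₀ A := IsScalarTower.of_algebraMap_eq (R := R) (S := A₀) (A := A) fun x =>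
    (σ.commutes x).symm
  haveI : IsScalarTower R₀ A₀ A := IsScalarTower.of_algebraMap_eq (R := R₀) (S := A₀) (A := A) fun x =>
    ((hσ _).trans (hρ x)).symm
  haveI : Module.Flat R₀ S₀ := hflat
  refine ⟨A₀, A₀ ⊗[R₀] S₀, inferInstance, inferInstance, inferInstance, inferInstance, inferInstance,
    inferInstance, hfp, inferInstance, faithfullyFlat_baseChange fun P => ?_, ⟨?_⟩⟩
  · rw [← ht]
    intro hP
    refine P.isPrime.ne_top ((Ideal.eq_top_iff_one _).2 ?_)
    exact Ideal.span_le.2 (by rintro _ ⟨i, rfl⟩; exact hP i.2) (hspan.ge Submodule.mem_top)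
  · haveI : Algebra.IsPushout R₀ A S₀ B := hpush
    exact (Algebra.IsPushout.equiv R₀ A S₀ B).symm.trans
      (Algebra.TensorProduct.cancelBaseChange R₀ A₀ A A S₀).symm

end Groth.Agent.FFModel
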